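import Cfsg.Agent.Homog.Srg

/-!
Parameters of strongly regular graphs: the multiplicities of the eigenvalues are integers.
-/

set_option autoImplicit false

namespace CfsgLib.FischerUnitaryExcl

open Finset

theorem srg_trace {V : Type*} [Fintype V] [DecidableEq V] [Nonempty V] {v : ℕ} (hV : Fintype.card V = v)
    (adj : V → V → Prop) [DecidableRel adj] (hsymm : ∀ x y, adj x y → adj y x)
    (hirr : ∀ x, ¬ adj x x) {k l m : ℕ} (hdeg : ∀ x, (univ.filter fun y => adj x y).card = k)
    (hl : ∀ x y, adj x y → (univ.filter fun z => adj x z ∧ adj z y).card = l)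
    (hm : ∀ x y, x ≠ y → ¬ adj x y → (univ.filter fun z => adj x z ∧ adj z y).card = m) :
    ((k : ℤ) * k = k + k * l + (v - 1 - k) * m) ∧
      (0 < ((l : ℤ) - m) ^ 2 + 4 * ((k : ℤ) - m) →
        ∃ t : ℤ, t ^ 2 * (((l : ℤ) - m) ^ 2 + 4 * ((k : ℤ) - m)) = (((v : ℤ) - 1) * ((l : ℤ) - m) + 2 * k) ^ 2) := by
  classical
  let A : Matrix V V ℝ := Matrix.of fun i j => if adj i j then 1 else 0
  let J : Matrix V V ℝ := Matrix.of fun _ _ => 1
  have hAA : A * A = ((k : ℝ) - m) • (1 : Matrix V V ℝ) + ((l : ℝ) - m) • A + (m : ℝ) • J := by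
    ext i j
    have hsum : (A * A) i j = ((univ.filter fun z => adj i z ∧ adj z j).card : ℝ) := by
      simp only [Matrix.mul_apply, A, Matrix.of_apply]
      rw [card_filter]
      push_cast
      refine sum_congr rfl fun z _ => ?_
      by_cases h1 : adj i z <;> by_cases h2 : adj z j <;> simp [h1, h2]
    rw [hsum]
    rcases eq_or_ne i j with rfl | hij
    · have : (univ.filter fun z => adj i z ∧ adj z i) = univ.filter fun z => adj i z := by
        ext z
        simpa using hsymm i z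
      rw [this, hdeg]
      simp [A, J, hirr]
    · by_cases h : adj i j
      · rw [hl i j h]; simp [A, J, h, hij]
      · rw [hm i j hij h]; simp [A, J, h, hij]
  have hAJ : A * J = (k : ℝ) • J := by
    ext i j
    simp [Matrix.mul_apply, A, J, hdeg]
  have hJA : J * A = (k : ℝ) • J := by
    ext i j
    have : (univ.filter fun x => adj x j) = univ.filter fun x => adj j x := by
      ext x
      simp only [mem_filter, mem_univ, true_and]
      exact ⟨hsymm x j, hsymm j x⟩
    simp [Matrix.mul_apply, A, J, this, hdeg]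
  have hJJ : J * J = (v : ℝ) • J := by
    ext i j
    simp [Matrix.mul_apply, J, hV]
  have hv0 : (v : ℝ) ≠ 0 := by
    rw [← hV]; exact_mod_cast Fintype.card_ne_zero
  have hlm : (k : ℤ) * k = k + k * l + (v - 1 - k) * m := by
    obtain ⟨i⟩ := (inferInstance : Nonempty V)
    have h := congrArg (fun M : Matrix V V ℝ => (M * J) i i) hAA
    simp only [Matrix.add_mul, Matrix.smul_mul, Matrix.mul_assoc, hAJ, hJJ, Matrix.one_mul,
      Matrix.mul_smul, Matrix.add_apply, Matrix.smul_apply, smul_eq_mul] at h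
    simp only [J, Matrix.of_apply] at h
    have h' : ((k : ℝ) * k) = k + k * l + (v - 1 - k) * m := by linarith
    exact_mod_cast h'
  refine ⟨hlm, fun hpos => ?_⟩
  set e : ℝ := (l : ℝ) - m with he
  have hpos' : (0 : ℝ) < e ^ 2 + 4 * ((k : ℝ) - m) := by rw [he]; exact_mod_cast hpos
  set d : ℝ := Real.sqrt (e ^ 2 + 4 * ((k : ℝ) - m)) with hd
  have hd2 : d * d = e ^ 2 + 4 * ((k : ℝ) - m) := Real.mul_self_sqrt hpos'.le
  have hd0 : d ≠ 0 := (Real.sqrt_pos.2 hpos').ne'
  set s : ℝ := (e - d) / 2 with hs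
  set c : ℝ := ((k : ℝ) - s) / (v : ℝ) with hc
  set M : Matrix V V ℝ := A - s • (1 : Matrix V V ℝ) - c • J with hM
  have hlm' : (k : ℝ) * k = k + k * l + (v - 1 - k) * m := by exact_mod_cast hlm
  have k0 : e - 2 * s = d := by rw [hs]; ring
  have k1 : (k : ℝ) - m + s ^ 2 = -(d * s) := by rw [hs]; linear_combination (-1 / 4 : ℝ) * hd2
  have k2 : (m : ℝ) - 2 * k * c + 2 * s * c + (v : ℝ) * c ^ 2 = -(d * c) := by
    rw [hc, hs, he]; field_simp; linear_combination hd2 - 4 * hlm'
  have hMM : M * M = d • M := by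
    rw [hM]
    simp only [Matrix.sub_mul, Matrix.mul_sub, Matrix.smul_mul, Matrix.mul_smul, Matrix.one_mul,
      Matrix.mul_one, hAA, hAJ, hJA, hJJ]
    ext i j
    simp only [Matrix.sub_apply, Matrix.add_apply, Matrix.smul_apply, smul_eq_mul]
    linear_combination (1 : Matrix V V ℝ) i j * k1 + A i j * k0 + J i j * k2
  obtain ⟨f, hf⟩ := Homog.trace_idempotent_natCast (E := d⁻¹ • M) (by
    rw [Matrix.smul_mul, Matrix.mul_smul, hMM, smul_smul, smul_smul]
    congr 1
    field_simp)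
  have htA : A.trace = 0 := by simp [Matrix.trace, A, hirr]
  have htJ : J.trace = (v : ℝ) := by simp [Matrix.trace, J, hV]
  rw [Matrix.trace_smul, hM, Matrix.trace_sub, Matrix.trace_sub, Matrix.trace_smul,
    Matrix.trace_smul, Matrix.trace_one, htA, htJ, hV, smul_eq_mul, smul_eq_mul, smul_eq_mul] at hf
  have h1 : (2 * (f : ℝ) - ((v : ℝ) - 1)) * d = -(((v : ℝ) - 1) * e + 2 * k) := by
    rw [← hf, hc, hs]
    field_simp
    push_cast
    ring
  refine ⟨2 * (f : ℤ) - ((v : ℤ) - 1), ?_⟩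
  have h2 : (2 * (f : ℝ) - ((v : ℝ) - 1)) ^ 2 * (e ^ 2 + 4 * ((k : ℝ) - m)) = (((v : ℝ) - 1) * e + 2 * k) ^ 2 := by
    rw [← hd2]
    linear_combination ((2 * (f : ℝ) - ((v : ℝ) - 1)) * d - (((v : ℝ) - 1) * e + 2 * k)) * h1
  rw [he] at h2
  exact_mod_cast h2

end CfsgLib.FischerUnitaryExcl
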