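import Cfsg.Agent.FischerUnitaryExcl.Glue
import Cfsg.Agent.FischerTypes.U62Count

/-!
No class of 3-transpositions has the partners of a member like the isotropic points of a unitary space of
dimension at least seven over the field with four elements.
-/

set_option autoImplicit false

namespace CfsgLib.FischerUnitaryExcl

open Cfsg FischerTransitivity CfsgLib.RepBounds.Unit CfsgLib.U62

variable {G : Type*} [Group G] [Finite G] {D : Set G}

theorem false_of_unitary_model (hD : IsThreeTranspositionClass D) (hs : IsSimpleGroup (commutator G))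
    (hna : ∃ x y : commutator G, x * y ≠ y * x) (hZ : Subgroup.center G = ⊥) {d : G} (hd : d ∈ D)
    {F : Type*} [Field F] [Fintype F] (C : ConjField F) (hC : C.q = 2)
    {κ : Type*} [Fintype κ] [DecidableEq κ] (hκ : 5 ≤ Fintype.card κ) (Φ : (Fin 2 ⊕ κ → F) → G)
    (hmem : ∀ u, herm C u u = 0 → u ≠ 0 → Φ u ∈ commSet D d)
    (hsurj : ∀ y ∈ commSet D d, ∃ u, herm C u u = 0 ∧ u ≠ 0 ∧ Φ u = y)
    (hsmul : ∀ (s : F) u, herm C u u = 0 → u ≠ 0 → s ≠ 0 → Φ (s • u) = Φ u)
    (heq : ∀ u u', herm C u u = 0 → u ≠ 0 → herm C u' u' = 0 → u' ≠ 0 → Φ u = Φ u' →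
      ∃ s : F, u' = s • u)
    (hiff : ∀ u u', herm C u u = 0 → u ≠ 0 → herm C u' u' = 0 → u' ≠ 0 →
      (Commute (Φ u) (Φ u') ↔ herm C u u' = 0)) : False := by
  classical
  choose rep hrep hrep0 hrepe using hsurj
  have hcard4 : Nat.card Fˣ = 3 := by
    rw [Nat.card_units, Nat.card_eq_fintype_card, C.card, hC]
    norm_num
  -- three isotropic vectors for each member
  have hfib : ∀ P : G → Prop, Nat.card {u : Fin 2 ⊕ κ → F // herm C u u = 0 ∧ u ≠ 0 ∧ P (Φ u)} =
      3 * {y ∈ commSet D d | P y}.ncard := by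
    intro P
    let f : {y ∈ commSet D d | P y} × Fˣ → {u : Fin 2 ⊕ κ → F // herm C u u = 0 ∧ u ≠ 0 ∧ P (Φ u)} :=
      fun p => ⟨(p.2 : F) • rep p.1.1 p.1.2.1, by
        simp [herm_smul_left, herm_smul_right, hrep],
        smul_ne_zero p.2.ne_zero (hrep0 _ _), by
        rw [hsmul _ _ (hrep _ _) (hrep0 _ _) p.2.ne_zero, hrepe]; exact p.1.2.2⟩
    have hf : Function.Bijective f := by
      constructor
      · rintro ⟨⟨y, hy⟩, s⟩ ⟨⟨y', hy'⟩, s'⟩ h
        have h' : (s : F) • rep y hy.1 = (s' : F) • rep y' hy'.1 := congrArg Subtype.val h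
        have hy2 := congrArg Φ h'
        rw [hsmul _ _ (hrep _ _) (hrep0 _ _) s.ne_zero, hsmul _ _ (hrep _ _) (hrep0 _ _) s'.ne_zero,
          hrepe, hrepe] at hy2
        subst hy2
        exact Prod.ext rfl (Units.ext (smul_left_injective F (hrep0 y hy.1) h'))
      · rintro ⟨u, hu, hu0, huP⟩
        obtain ⟨s, hs⟩ := heq (rep _ (hmem u hu hu0)) u (hrep _ _) (hrep0 _ _) hu hu0 (hrepe _ _)
        have hs0 : s ≠ 0 := fun h => hu0 (by rw [hs, h, zero_smul])
        exact ⟨(⟨Φ u, hmem u hu hu0, huP⟩, Units.mk0 s hs0), Subtype.ext hs.symm⟩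
    rw [← Nat.card_congr (Equiv.ofBijective f hf), Nat.card_prod, hcard4, mul_comm,
      ← Nat.card_coe_set_eq]
  set n := Fintype.card (Fin 2 ⊕ κ) with hndef
  have hn : n = Fintype.card κ + 2 := by rw [hndef]; simp [add_comm]
  set e := vE C κ with he
  have he1 : herm C e e = 0 := herm_vE_vE C
  have he0 : e ≠ 0 := fun h => by
    have := congrFun h (Sum.inl 0)
    simp [he, vE] at this
  have hN := card_iso_aux C hC n (ι := Fin 2 ⊕ κ) rfl
  have hN' := card_iso_aux C hC (Fintype.card κ) (ι := κ) rfl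
  set N := Nat.card {v : Fin 2 ⊕ κ → F // herm C v v = 0} with hNdef
  set N' := Nat.card {v : κ → F // herm C v v = 0} with hN'def
  have hperp : Nat.card {v : Fin 2 ⊕ κ → F // herm C v v = 0 ∧ herm C v e = 0} = 4 * N' := by
    have h := Nat.card_congr (perpEquiv C (κ := κ) (fun _ => True) (fun _ => True) (fun _ _ => Iff.rfl))
    rw [Nat.card_prod, Nat.card_eq_fintype_card (α := F), C.card, hC] at h
    simpa [he, hN'def] using h
  have hone : Nat.card {v : Fin 2 ⊕ κ → F // herm C v v = 0 ∧ v ≠ 0} + 1 = N := by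
    rw [hNdef, Nat.card_eq_fintype_card, Nat.card_eq_fintype_card, Fintype.card_subtype,
      Fintype.card_subtype, ← Finset.card_insert_of_notMem (a := (0 : Fin 2 ⊕ κ → F)) (by simp)]
    congr 1
    ext v
    by_cases hv : v = 0
    · simp [hv, herm_zero_left]
    · simp [hv]
  have hfar0 : Nat.card {v : Fin 2 ⊕ κ → F // herm C v v = 0 ∧ herm C v e = 0} +
      Nat.card {v : Fin 2 ⊕ κ → F // herm C v v = 0 ∧ herm C v e ≠ 0} = N := by
    rw [hNdef, Nat.card_eq_fintype_card, Nat.card_eq_fintype_card, Nat.card_eq_fintype_card,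
      Fintype.card_subtype, Fintype.card_subtype, Fintype.card_subtype,
      ← Finset.card_union_of_disjoint (Finset.disjoint_filter.2 fun v _ h h' => h'.2 h.2)]
    congr 1
    ext v
    by_cases hv : herm C v e = 0 <;> simp [hv]
  have hk3 : 3 * (commSet D d).ncard + 1 = N := by
    rw [← hone, show (commSet D d).ncard = {y ∈ commSet D d | True}.ncard by simp, ← hfib]
    simp
  have hfar3 : 3 * {b ∈ commSet D d | ¬ Commute (Φ e) b}.ncard + 4 * N' = N := by
    rw [← hfar0, hperp, ← hfib, add_comm]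
    congr 1
    refine Nat.card_congr (Equiv.subtypeEquivRight fun v => ?_)
    constructor
    · rintro ⟨h1, h2, h3⟩
      refine ⟨h1, fun h => h3 ((hiff e v he1 he0 h1 h2).2 ?_)⟩
      rw [← conj_herm, h, map_zero]
    · rintro ⟨h1, h2⟩
      have h0 : v ≠ 0 := fun h => h2 (by rw [h, herm_zero_left])
      refine ⟨h1, h0, fun h => h2 ?_⟩
      rw [← conj_herm, (hiff e v he1 he0 h1 h0).1 h, map_zero]
  have h4 : (2 : ℤ) ^ (2 * n) = 4 * (2 ^ (n - 1)) ^ 2 := by
    rw [← pow_mul, show (4 : ℤ) = 2 ^ 2 by norm_num, ← pow_add]; congr 1; omega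
  have h2 : (-2 : ℤ) ^ n = 2 * ((-1) ^ n * 2 ^ (n - 1)) := by
    rw [show (-2 : ℤ) = -1 * 2 by norm_num, mul_pow, mul_left_comm, ← pow_succ']
    congr 2; omega
  refine false_of_counts hD hs hna hZ (n := n) (by omega) hd (hmem e he1 he0) ?_ ?_
  · rw [threeK]
    have : (3 : ℤ) * ((commSet D d).ncard : ℤ) + 1 = N := by exact_mod_cast hk3
    linarith
  · have h5 : (2 : ℤ) ^ (2 * n) = 16 * 2 ^ (2 * Fintype.card κ) := by
      rw [hn, show 2 * (Fintype.card κ + 2) = 2 * Fintype.card κ + 4 by ring, pow_add]; ring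
    have h6 : (-2 : ℤ) ^ n = 4 * (-2) ^ Fintype.card κ := by rw [hn, pow_add]; ring
    have h7 : (2 : ℤ) ^ (2 * n) = 8 * 2 ^ (2 * n - 3) := by
      rw [show (8 : ℤ) = 2 ^ 3 by norm_num, ← pow_add]; congr 1; omega
    have : (3 : ℤ) * ({b ∈ commSet D d | ¬ Commute (Φ e) b}.ncard : ℤ) + 4 * N' = N := by
      exact_mod_cast hfar3
    have : (({b ∈ commSet D d | ¬ Commute (Φ e) b}.ncard : ℕ) : ℤ) = ((2 ^ (2 * n - 3) : ℕ) : ℤ) := by
      push_cast; linarith
    exact_mod_cast this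

end CfsgLib.FischerUnitaryExcl
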