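import Cfsg.Agent.FischerUnitaryExcl.Arith
import Cfsg.Agent.FischerUnitaryExcl.Srg

/-!
There is no strongly regular graph with as many neighbours of a vertex as there are isotropic points of
the unitary space of dimension at least seven over the field with four elements, two of them joined
exactly when they are orthogonal.
-/

set_option autoImplicit false

namespace CfsgLib.FischerUnitaryExcl

open Finset

theorem exists_exponents {n : ℕ} (hn : 2 ≤ n) {u w : ℤ} (h : w * w = u * u + 4 * 2 ^ (2 * n - 3)) :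
    ∃ i j : ℕ, i + j = 2 * n - 3 ∧ u = 2 ^ j - 2 ^ i := by
  have hF : (0 : ℤ) < 4 * 2 ^ (2 * n - 3) := by positivity
  have hprod : (|w| - u) * (|w| + u) = 2 ^ (2 * n - 1) := by
    rw [show 2 * n - 1 = 2 * n - 3 + 2 by omega, pow_add]
    linear_combination abs_mul_abs_self w + h
  have hlt : |u| < |w| := by
    nlinarith [abs_mul_abs_self w, abs_mul_abs_self u, abs_nonneg u, abs_nonneg w]
  obtain ⟨hu1, hu2⟩ := abs_lt.1 hlt
  obtain ⟨p, hp⟩ : ∃ p : ℕ, |w| - u = p := ⟨(|w| - u).toNat, (Int.toNat_of_nonneg (by linarith)).symm⟩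
  obtain ⟨q, hq⟩ : ∃ q : ℕ, |w| + u = q := ⟨(|w| + u).toNat, (Int.toNat_of_nonneg (by linarith)).symm⟩
  rw [hp, hq] at hprod
  have hpq : p * q = 2 ^ (2 * n - 1) := by exact_mod_cast hprod
  obtain ⟨a, -, rfl⟩ := (Nat.dvd_prime_pow Nat.prime_two).1 ⟨q, hpq.symm⟩
  obtain ⟨b, -, rfl⟩ := (Nat.dvd_prime_pow Nat.prime_two).1 ⟨_, by rw [mul_comm]; exact hpq.symm⟩
  have hab : a + b = 2 * n - 1 := Nat.pow_right_injective le_rfl (by simpa [pow_add] using hpq)
  push_cast at hp hq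
  have hne : ∀ c d : ℕ, c + d = 2 * n - 1 → 2 * |w| = 2 ^ c + 2 ^ d → 1 ≤ c := by
    intro c d hcd he
    by_contra hc
    obtain rfl : c = 0 := by omega
    obtain ⟨d, rfl⟩ : ∃ e, d = e + 1 := ⟨d - 1, by omega⟩
    rw [pow_succ] at he
    omega
  have ha := hne a b hab (by linarith)
  have hb := hne b a (by omega) (by linarith)
  refine ⟨a - 1, b - 1, by omega, ?_⟩
  have h1 : (2 : ℤ) ^ a = 2 * 2 ^ (a - 1) := by rw [← pow_succ']; congr 1; omega
  have h2 : (2 : ℤ) ^ b = 2 * 2 ^ (b - 1) := by rw [← pow_succ']; congr 1; omega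
  linarith

/-- No such graph for `n ≥ 7`. -/
theorem no_graph {n : ℕ} (hn : 7 ≤ n) {V : Type*} [Fintype V] [DecidableEq V] [Nonempty V]
    (adj : V → V → Prop) [DecidableRel adj] (hsymm : ∀ x y, adj x y → adj y x)
    (hirr : ∀ x, ¬ adj x x) {k l m : ℕ} (hdeg : ∀ x, (univ.filter fun y => adj x y).card = k)
    (hl : ∀ x y, adj x y → (univ.filter fun z => adj x z ∧ adj z y).card = l)
    (hm : ∀ x y, x ≠ y → ¬ adj x y → (univ.filter fun z => adj x z ∧ adj z y).card = m)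
    (hk : 3 * (k : ℤ) = threeK n) (hlam : l + 1 + 2 ^ (2 * n - 3) = k) (hmk : m < k) : False := by
  obtain ⟨hpar, htr⟩ := srg_trace (v := Fintype.card V) rfl adj hsymm hirr hdeg hl hm
  set v : ℤ := (Fintype.card V : ℤ) with hv
  have hlam' : (l : ℤ) + 1 + 2 ^ (2 * n - 3) = k := by exact_mod_cast hlam
  have hmk' : (m : ℤ) < k := by exact_mod_cast hmk
  have hF : (0 : ℤ) < 2 ^ (2 * n - 3) := by positivity
  have hk0 : (0 : ℤ) < k := by
    linarith [Int.natCast_nonneg l]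
  have hLm : (v - 1 - k) * m = k * 2 ^ (2 * n - 3) := by
    linear_combination -hpar - (k : ℤ) * hlam'
  have hmul : 0 < (v - 1 - k) * m := hLm ▸ mul_pos hk0 hF
  have hm0 : (0 : ℤ) < m := by
    rcases Nat.eq_zero_or_pos m with h | h
    · simp [h] at hmul
    · exact_mod_cast h
  have hL0 : 0 < v - 1 - k := pos_of_mul_pos_left hmul hm0.le
  obtain ⟨t, ht⟩ := htr (by linarith [sq_nonneg ((l : ℤ) - m)])
  set X : ℤ := (v - 1) * ((l : ℤ) - m) + 2 * k with hX
  have hX0 : X ≠ 0 := by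
    intro h
    have hd : (m : ℤ) - l = 1 := by
      by_contra hd
      rcases le_or_gt ((m : ℤ) - l) 0 with hle | hgt
      · nlinarith
      · nlinarith [show (2 : ℤ) ≤ (m : ℤ) - l by omega]
    have hLk : v - 1 - k = k := by
      have : (v - 1) * ((m : ℤ) - l) = 2 * k := by linarith
      rw [hd, mul_one] at this
      linarith
    rw [hLk] at hLm
    have hmF : (m : ℤ) = 2 ^ (2 * n - 3) := mul_left_cancel₀ hk0.ne' hLm
    have hT : (2 : ℤ) * 2 ^ (2 * n - 3) = (2 ^ (n - 1)) ^ 2 := by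
      rw [← pow_succ', ← pow_mul]; congr 1; omega
    have h2 : (2 : ℤ) ≤ 2 ^ (n - 1) := le_self_pow₀ (by norm_num) (by omega)
    rw [threeK] at hk
    rcases neg_one_pow_eq_or ℤ n with e | e <;> rw [e] at hk <;> nlinarith
  have ht0 : t ≠ 0 := by
    rintro rfl
    exact hX0 (pow_eq_zero_iff (two_ne_zero) |>.1 (by linarith))
  obtain ⟨w, hw⟩ := (Int.pow_dvd_pow_iff two_ne_zero).1 ⟨_, ht.symm⟩
  have hD : w * w = ((m : ℤ) - l - 2) * ((m : ℤ) - l - 2) + 4 * 2 ^ (2 * n - 3) := by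
    refine mul_left_cancel₀ (pow_ne_zero 2 ht0) ?_
    linear_combination (-(X + t * w)) * hw - ht - (4 * t ^ 2) * hlam'
  obtain ⟨i, j, hij, hu⟩ := exists_exponents (by omega) hD
  have hmu : 3 * (m : ℤ) = threeMu n i j := by
    rw [threeMu, ← hk]; linarith
  obtain ⟨rfl, rfl⟩ := param_eq hn hij hk hmu hm0 hmk' ⟨_, by rw [← hLm, mul_comm]⟩
  obtain rfl : j = 7 := by omega
  have hk' : (k : ℤ) = 2709 := by norm_num [threeK] at hk; linarith
  have hm' : (m : ℤ) = 774 := by norm_num [threeMu, threeK] at hmu; linarith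
  have hl' : (l : ℤ) = 660 := by norm_num at hlam'; linarith
  have hv' : v = 9878 := by rw [hk', hm'] at hLm; norm_num at hLm; linarith
  have hd : (20736 : ℤ) ∣ X ^ 2 :=
    ⟨t ^ 2, by rw [← ht, hk', hm', hl']; ring⟩
  rw [hX, hk', hm', hl', hv'] at hd
  norm_num at hd

end CfsgLib.FischerUnitaryExcl
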