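import Mathlib

/-!
The parameters of a rank three graph whose local graph is the one on the isotropic points of a
unitary space of dimension at least seven over the field with four elements are infeasible.
-/

set_option autoImplicit false

namespace CfsgLib.FischerUnitaryExcl

/-- Three times the number of isotropic points of the unitary space of dimension `n` over `𝔽₄`. -/
def threeK (n : ℕ) : ℤ := 2 * (2 ^ (n - 1)) ^ 2 + (-1) ^ n * 2 ^ (n - 1) - 1

/-- Three times the candidate number of common partners of two non-commuting members. -/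
def threeMu (n i j : ℕ) : ℤ := threeK n - 3 * 2 ^ (2 * n - 3) + 3 + 3 * 2 ^ j - 3 * 2 ^ i

theorem small_cases : ∀ n ∈ List.range 20, ∀ i ∈ List.range 38, 7 ≤ n → i ≤ 2 * n - 3 →
    0 < threeMu n i (2 * n - 3 - i) → threeMu n i (2 * n - 3 - i) < threeK n →
    threeK n * 2 ^ (2 * n - 3) % threeMu n i (2 * n - 3 - i) = 0 → n = 7 ∧ i = 4 := by
  decide +kernel

theorem dvd_of_not_sixteen {μ k : ℤ} {e : ℕ} (h : μ ∣ k * 2 ^ e) (h16 : ¬ (16 : ℤ) ∣ μ) :
    μ ∣ 8 * k := by
  have hμ : μ ≠ 0 := fun h0 => h16 (h0 ▸ dvd_zero _)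
  obtain ⟨v, o, ho, he⟩ := Nat.exists_eq_pow_mul_and_not_dvd (Int.natAbs_ne_zero.2 hμ) 2 (by norm_num)
  have hv : v ≤ 3 := by
    by_contra hv
    have : 2 ^ 4 ∣ μ.natAbs := he ▸ (pow_dvd_pow 2 (by omega : 4 ≤ v)).trans (dvd_mul_right _ _)
    exact h16 (Int.ofNat_dvd_left.2 (by simpa using this))
  have h1 : o ∣ k.natAbs * 2 ^ e := by
    have h2 := Int.natAbs_dvd_natAbs.2 h
    rw [Int.natAbs_mul, Int.natAbs_pow, he] at h2
    exact (dvd_mul_left o _).trans (by simpa using h2)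
  have hk : o ∣ k.natAbs :=
    (Nat.Coprime.pow_right e ((Nat.prime_two.coprime_iff_not_dvd).2 ho).symm).dvd_of_dvd_mul_right h1
  have : μ.natAbs ∣ 8 * k.natAbs := by
    rw [he]
    exact mul_dvd_mul ((pow_dvd_pow 2 hv).trans (by norm_num)) hk
  exact Int.natAbs_dvd_natAbs.1 (by rw [Int.natAbs_mul]; simpa using this)

/-- No parameters for `n ≥ 20`. -/
theorem large_case {T F A B ε k μ : ℤ} (hT : 524288 ≤ T) (hF : 2 * F = T * T) (hAB : A * B = F)
    (hA : 2 ≤ A) (hB : 2 ≤ B) (hA2 : (2 : ℤ) ∣ A) (hB2 : (2 : ℤ) ∣ B) (hε : ε = 1 ∨ ε = -1)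
    (hk : 3 * k = 4 * F + ε * T - 1) (hμ : 3 * μ = F + ε * T + 2 + 3 * B - 3 * A)
    (h16 : ¬ (16 : ℤ) ∣ μ) (hpos : 0 < μ) {e : ℕ} (hd : μ ∣ k * 2 ^ e) : False := by
  obtain ⟨q, hq⟩ := dvd_of_not_sixteen hd h16
  have key : ∀ a b : ℤ, μ ∣ 8 * (a * (3 * μ) - b * (3 * k)) := fun a b =>
    ⟨24 * a - 3 * b * q, by linear_combination (-3 * b) * hq⟩
  have fin : ∀ D : ℤ, μ ∣ 8 * D → D ≠ 0 → 24 * |D| < 3 * μ → False := by
    intro D hD h0 hlt
    have h1 := Int.le_of_dvd (by positivity) ((dvd_abs _ _).2 hD)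
    rw [abs_mul, abs_of_pos (by norm_num : (0 : ℤ) < 8)] at h1
    linarith
  obtain ⟨a, ha⟩ := hA2
  obtain ⟨b, hb⟩ := hB2
  have hT2 : (2 : ℤ) ∣ T := by
    by_contra h
    obtain ⟨t, ht⟩ := Int.odd_iff.2 (Int.two_dvd_ne_zero.1 h)
    have : 2 * F = 2 * (2 * t * t + 2 * t) + 1 := by rw [hF, ht]; ring
    omega
  obtain ⟨t, ht⟩ := hT2
  have hεT : |ε * T| = T := by rcases hε with rfl | rfl <;> simp [abs_of_pos (show (0 : ℤ) < T by linarith)]
  have hεT' := abs_le.1 hεT.le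
  by_cases hsA : 512 * A ≤ T
  · refine fin _ (key (4 * A) (A + 3)) ?_ ?_
    · rw [hμ, hk]
      intro h
      have : 2 * (t * (ε * (3 * A - 3)) + 9 * a - 24 * a * a + 1) + 1 = 0 := by
        have e1 : 4 * A * (F + ε * T + 2 + 3 * B - 3 * A) - (A + 3) * (4 * F + ε * T - 1) =
            2 * (t * (ε * (3 * A - 3)) + 9 * a - 24 * a * a + 1) + 1 := by
          linear_combination (12 : ℤ) * hAB + (ε * (3 * A - 3)) * ht + (9 - 12 * A - 24 * a) * ha
        linarith
      omega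
    · rw [hμ, hk]
      have e1 : 4 * A * (F + ε * T + 2 + 3 * B - 3 * A) - (A + 3) * (4 * F + ε * T - 1) =
          ε * T * (3 * A - 3) + 9 * A - 12 * A * A + 3 := by linear_combination (12 : ℤ) * hAB
      have h2 : |4 * A * (F + ε * T + 2 + 3 * B - 3 * A) - (A + 3) * (4 * F + ε * T - 1)| ≤
          T * (3 * A) + 9 * A + 12 * A * A + 3 := by
        rw [e1, abs_le]
        constructor <;> nlinarith
      have h3 : 512 * (T * (3 * A)) ≤ 3 * (T * T) := by nlinarith
      have h4 : 512 * (A * A) ≤ T * A := by nlinarith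
      nlinarith
  by_cases hsB : 1024 * B ≤ T
  · have hB4 : 4 ≤ B := by
      by_contra hlt
      have hB2' : B = 2 := by omega
      subst hB2'
      nlinarith
    refine fin _ (key (4 * B) (B - 3)) ?_ ?_
    · rw [hμ, hk]
      intro h
      have : 2 * (t * (ε * (3 * B + 3)) + 9 * b + 24 * b * b - 2) + 1 = 0 := by
        have e1 : 4 * B * (F + ε * T + 2 + 3 * B - 3 * A) - (B - 3) * (4 * F + ε * T - 1) =
            2 * (t * (ε * (3 * B + 3)) + 9 * b + 24 * b * b - 2) + 1 := by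
          linear_combination (-12 : ℤ) * hAB + (ε * (3 * B + 3)) * ht + (9 + 12 * B + 24 * b) * hb
        linarith
      omega
    · rw [hμ, hk]
      have e1 : 4 * B * (F + ε * T + 2 + 3 * B - 3 * A) - (B - 3) * (4 * F + ε * T - 1) =
          ε * T * (3 * B + 3) + 9 * B + 12 * B * B - 3 := by linear_combination (-12 : ℤ) * hAB
      have h2 : |4 * B * (F + ε * T + 2 + 3 * B - 3 * A) - (B - 3) * (4 * F + ε * T - 1)| ≤
          T * (3 * B + 3) + 9 * B + 12 * B * B + 3 := by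
        rw [e1, abs_le]
        constructor <;> nlinarith
      have h3 : 4 * A ≤ F := by nlinarith
      have h4 : 1024 * (T * (3 * B)) ≤ 3 * (T * T) := by nlinarith
      have h5 : 1024 * (B * B) ≤ T * B := by nlinarith
      nlinarith
  refine fin _ (key 4 1) ?_ ?_
  · rw [hμ, hk]
    intro h
    have : 2 * (t * (3 * ε) + 4 + 12 * b - 12 * a) + 1 = 0 := by
      have e1 : 4 * (F + ε * T + 2 + 3 * B - 3 * A) - 1 * (4 * F + ε * T - 1) =
          2 * (t * (3 * ε) + 4 + 12 * b - 12 * a) + 1 := by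
        linear_combination (3 * ε) * ht + (12 : ℤ) * hb - (12 : ℤ) * ha
      linarith
    omega
  · rw [hμ, hk]
    have hB' : B ≤ 256 * T := by nlinarith
    have hA' : A ≤ 512 * T := by nlinarith
    have h2 : |4 * (F + ε * T + 2 + 3 * B - 3 * A) - 1 * (4 * F + ε * T - 1)| ≤ 6148 * T := by
      rw [abs_le]
      constructor <;> linarith
    nlinarith

/-- Feasible parameters only for `n = 7` and `(i, j) = (4, 7)`. -/
theorem param_eq {n i j : ℕ} (hn : 7 ≤ n) (hij : i + j = 2 * n - 3) {k μ : ℤ}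
    (hk : 3 * k = threeK n) (hμ : 3 * μ = threeMu n i j) (hpos : 0 < μ) (hlt : μ < k)
    (hd : μ ∣ k * 2 ^ (2 * n - 3)) : n = 7 ∧ i = 4 := by
  obtain rfl : j = 2 * n - 3 - i := by omega
  by_cases hsmall : n < 20
  · refine small_cases n (List.mem_range.2 hsmall) i (List.mem_range.2 (by omega)) hn (by omega) (by linarith) (by linarith) ?_
    rw [← hk, ← hμ]
    refine Int.emod_eq_zero_of_dvd ?_
    rw [mul_assoc]
    exact mul_dvd_mul_left 3 hd
  exfalso
  obtain ⟨d, rfl⟩ : ∃ d, n = d + 20 := ⟨n - 20, by omega⟩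
  set j := 2 * (d + 20) - 3 - i with hj
  have hFd : ((2 : ℤ) ^ (2 * (d + 20) - 3)) = 2 ^ (2 * d + 37) := by congr 1
  have hTd : ((2 : ℤ) ^ (d + 20 - 1)) = 2 ^ (d + 19) := by congr 1
  have hε : ((-1 : ℤ)) ^ (d + 20) = 1 ∨ ((-1 : ℤ)) ^ (d + 20) = -1 := neg_one_pow_eq_or ℤ _
  have hk' : 3 * k = 4 * 2 ^ (2 * d + 37) + (-1) ^ (d + 20) * 2 ^ (d + 19) - 1 := by
    rw [hk, threeK, hTd]; ring
  have hμ' : 3 * μ = 2 ^ (2 * d + 37) + (-1) ^ (d + 20) * 2 ^ (d + 19) + 2 + 3 * 2 ^ j - 3 * 2 ^ i := by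
    rw [hμ, threeMu, ← hk, hk', hFd]; ring
  have hi1 : 1 ≤ i := by
    by_contra h
    obtain rfl : i = 0 := by omega
    have : j = 2 * d + 37 := by omega
    rw [this] at hμ'
    linarith [show (0:ℤ) < 2 ^ (d + 19) by positivity]
  have hj1 : 1 ≤ j := by
    by_contra h
    have : i = 2 * d + 37 := by omega
    rw [this, show j = 0 by omega] at hμ'
    have h1 : (2 : ℤ) ^ (d + 19) ≤ 2 ^ (2 * d + 37) := pow_le_pow_right₀ (by norm_num) (by omega)
    have h2 : (64 : ℤ) ≤ 2 ^ (2 * d + 37) :=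
      (by norm_num : (64 : ℤ) = 2 ^ 6).le.trans (pow_le_pow_right₀ (by norm_num) (by omega))
    have h3 : (0 : ℤ) < 2 ^ (d + 19) := by positivity
    rcases hε with e | e <;> rw [e] at hμ' <;> linarith
  have h16 : ¬ (16 : ℤ) ∣ μ := by
    intro h
    have hz : ∀ m, 4 ≤ m → ((2 : ℤ) ^ m : ZMod 16) = 0 := fun m hm => by
      have : ((2 : ℤ) : ZMod 16) ^ 4 = 0 := by decide
      obtain ⟨c, rfl⟩ := Nat.exists_eq_add_of_le hm
      push_cast at this ⊢
      rw [pow_add, this, zero_mul]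
    have h0 := congrArg (fun z : ℤ => (z : ZMod 16)) hμ'
    have hμ0 : (μ : ZMod 16) = 0 := (ZMod.intCast_zmod_eq_zero_iff_dvd μ 16).2 (by exact_mod_cast h)
    push_cast at h0
    have z1 := hz (2 * d + 37) (by omega)
    have z2 := hz (d + 19) (by omega)
    push_cast at z1 z2
    rw [hμ0, z1, z2, mul_zero, mul_zero, zero_add, zero_add] at h0
    by_cases hi4 : 4 ≤ i
    · have z3 := hz i hi4
      push_cast at z3
      rw [z3] at h0
      by_cases hj4 : 4 ≤ j
      · have z4 := hz j hj4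
        push_cast at z4
        rw [z4] at h0
        revert h0; decide
      · interval_cases j <;> revert h0 <;> decide
    · have z4 := hz j (by omega)
      push_cast at z4
      rw [z4] at h0
      interval_cases i <;> revert h0 <;> decide
  exact large_case (T := 2 ^ (d + 19)) (F := 2 ^ (2 * d + 37)) (A := 2 ^ i) (B := 2 ^ j)
    ((by norm_num : (524288 : ℤ) = 2 ^ 19).le.trans (pow_le_pow_right₀ (by norm_num) (by omega)))
    (by rw [← pow_add, ← pow_succ']; congr 1; omega) (by rw [← pow_add]; congr 1 <;> omega)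
    (le_self_pow₀ (by norm_num) (by omega)) (le_self_pow₀ (by norm_num) (by omega))
    (dvd_pow_self _ (by omega)) (dvd_pow_self _ (by omega)) hε hk' hμ' h16 hpos hd

end CfsgLib.FischerUnitaryExcl
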