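import Cfsg.Agent.FischerUnitaryExcl.Main
import Cfsg.Agent.FischerRankThree.Main

/-!
A class of 3-transpositions in which the partners of a member are as many as the isotropic points of the
unitary space of dimension at least seven over the field with four elements, and two of them fail to
commute as often as two such points fail to be orthogonal, does not exist.
-/

set_option autoImplicit false

namespace CfsgLib.FischerUnitaryExcl

open Cfsg FischerTransitivity

variable {G : Type*} [Group G] [Finite G] {D : Set G}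

theorem false_of_counts (hD : IsThreeTranspositionClass D) (hs : IsSimpleGroup (commutator G))
    (hna : ∃ x y : commutator G, x * y ≠ y * x) (hZ : Subgroup.center G = ⊥) {n : ℕ} (hn : 7 ≤ n)
    {d a : G} (hd : d ∈ D) (ha : a ∈ commSet D d) (hk : 3 * ((commSet D d).ncard : ℤ) = threeK n)
    (hfar : {b ∈ commSet D d | ¬ Commute a b}.ncard = 2 ^ (2 * n - 3)) : False := by
  classical
  have hsol := FischerRankThree.solvable_normal_eq_bot hs hna hZ
  haveI := Fintype.ofFinite ↥D
  haveI : Nonempty ↥D := ⟨⟨d, hd⟩⟩
  have hconj : ∀ (g x : G), (fun y => g * y * g⁻¹) '' commSet D x = commSet D (g * x * g⁻¹) :=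
    fun g x => by simpa using conj_commSet hD x g
  have hcount : ∀ (P : G → Prop) (i : DecidablePred fun y : ↥D => P y),
      (@Finset.filter _ (fun y : ↥D => P y) i Finset.univ).card = {y ∈ D | P y}.ncard := by
    intro P i
    rw [← Set.ncard_coe_finset, ← Set.ncard_image_of_injective _ Subtype.val_injective]
    congr 1
    ext y
    simp [and_comm]
  let adj : ↥D → ↥D → Prop := fun x y => (x : G) ≠ y ∧ Commute (x : G) y
  have hsub : ∀ x : G, {y ∈ D | x ≠ y ∧ Commute x y} = commSet D x := fun x => by
    ext y; simp [commSet, ne_comm]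
  have hcommon : ∀ x z : G, {y ∈ D | (x ≠ y ∧ Commute x y) ∧ y ≠ z ∧ Commute y z} =
      commSet D x ∩ commSet D z := fun x z => by
    ext y
    simp [commSet, ne_comm, Commute.symm_iff]
    all_goals tauto
  have hncard : ∀ (g x z : G), (commSet D (g * x * g⁻¹) ∩ commSet D (g * z * g⁻¹)).ncard =
      (commSet D x ∩ commSet D z).ncard := by
    intro g x z
    rw [← hconj, ← hconj, ← Set.image_inter (fun u v h => by simpa using h),
      Set.ncard_image_of_injective _ (fun u v h => by simpa using h)]
  set k := (commSet D d).ncard with hkdef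
  have hk' : ∀ x : ↥D, (Finset.univ.filter fun y => adj x y).card = k := by
    intro x
    simp only [adj]
    refine (hcount (fun y => (x : G) ≠ y ∧ Commute (x : G) y) _).trans ?_
    rw [hsub]
    exact commSet_ncard_eq hD x.2 hd
  set l := (commSet D d ∩ commSet D a).ncard with hldef
  obtain ⟨-, hnon, hcomm, hncomm⟩ := FischerRankThree.rank_three hD hs hna hZ hd
  obtain ⟨c, hc, hdc⟩ := hnon
  set m := (commSet D d ∩ commSet D c).ncard with hmdef
  have hl' : ∀ x y : ↥D, adj x y →
      (Finset.univ.filter fun z => adj x z ∧ adj z y).card = l := by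
    intro x y hxy
    simp only [adj]
    refine (hcount (fun z => ((x : G) ≠ z ∧ Commute (x : G) z) ∧ z ≠ y ∧ Commute z y) _).trans ?_
    rw [hcommon]
    obtain ⟨g, hg⟩ := exists_conj hD x.2 hd
    have hy' : g * (y : G) * g⁻¹ ≠ d := fun h => hxy.1 (by
      rw [← hg] at h; simpa using h.symm)
    have hcy : Commute d (g * (y : G) * g⁻¹) := hg ▸ hxy.2.map (MulAut.conj g).toMonoidHom
    obtain ⟨k', hk1, hk2⟩ := hcomm _ (conj_mem hD g y.2) a ha.1 hy' ha.2.1 hcy ha.2.2
    rw [← hncard g, hg, ← hncard k', hk2, show k' * d * k'⁻¹ = d by rw [hk1.eq, mul_inv_cancel_right]]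
  have hm' : ∀ x y : ↥D, x ≠ y → ¬ adj x y →
      (Finset.univ.filter fun z => adj x z ∧ adj z y).card = m := by
    intro x y hne hxy
    simp only [adj]
    refine (hcount (fun z => ((x : G) ≠ z ∧ Commute (x : G) z) ∧ z ≠ y ∧ Commute z y) _).trans ?_
    rw [hcommon]
    have hncxy : ¬ Commute (x : G) y := fun h => hxy ⟨fun e => hne (Subtype.ext e), h⟩
    obtain ⟨g, hg⟩ := exists_conj hD x.2 hd
    have hcy : ¬ Commute d (g * (y : G) * g⁻¹) := fun h => hncxy (by
      rw [← hg] at h
      have := h.map (MulAut.conj g⁻¹).toMonoidHom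
      simpa [mul_assoc] using this)
    obtain ⟨k', hk1, hk2⟩ := hncomm _ (conj_mem hD g y.2) c hc hcy hdc
    rw [← hncard g, hg, ← hncard k', hk2, show k' * d * k'⁻¹ = d by rw [hk1.eq, mul_inv_cancel_right]]
  have hmk : m < k := by
    refine lt_of_le_of_ne (Set.ncard_le_ncard Set.inter_subset_left (Set.toFinite _)) fun h => ?_
    have h1 : commSet D d ∩ commSet D c = commSet D d :=
      Set.eq_of_subset_of_ncard_le Set.inter_subset_left h.ge (Set.toFinite _)
    have h2 : commSet D d = commSet D c := Set.eq_of_subset_of_ncard_le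
      (Set.inter_eq_left.1 h1) (commSet_ncard_eq hD hc hd).le (Set.toFinite _)
    obtain rfl := eq_of_commSet_eq hsol hD hd hc ⟨a, ha⟩ h2.symm
    exact hdc (Commute.refl _)
  have hlam : l + 1 + 2 ^ (2 * n - 3) = k := by
    have hsplit : commSet D d =
        insert a (commSet D d ∩ commSet D a) ∪ {b ∈ commSet D d | ¬ Commute a b} := by
      ext b
      refine ⟨fun hb => ?_, ?_⟩
      · by_cases hab : Commute a b
        · by_cases hba : b = a
          · exact Or.inl (Or.inl hba)
          · exact Or.inl (Or.inr ⟨hb, hb.1, hba, hab⟩)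
        · exact Or.inr ⟨hb, hab⟩
      · rintro ((rfl | hb) | hb)
        · exact ha
        · exact hb.1
        · exact hb.1
    have hdis : Disjoint (insert a (commSet D d ∩ commSet D a)) {b ∈ commSet D d | ¬ Commute a b} := by
      rw [Set.disjoint_left]
      rintro b (rfl | hb) hb'
      · exact hb'.2 (Commute.refl _)
      · exact hb'.2 hb.2.2.2
    rw [hkdef, hsplit, Set.ncard_union_eq hdis (Set.toFinite _) (Set.toFinite _),
      Set.ncard_insert_of_notMem (fun h => h.2.2.1 rfl) (Set.toFinite _), hfar]
  exact no_graph hn adj (fun x y h => ⟨h.1.symm, h.2.symm⟩) (fun x h => h.1 rfl) hk' hl' hm' hk hlam hmk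

end CfsgLib.FischerUnitaryExcl
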